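import Groth.Agent.CompSetLib.AssSpread
import Groth.Agent.FlatInjLib.AssFibre
import Groth.Agent.FlatInjLib.FinWeakAssFT
import Groth.Agent.FlatLib.FibMaster
import Mathlib

/-! # Associated points along flat points of a closure -/

set_option autoImplicit false
set_option backward.isDefEq.respectTransparency false
set_option backward.isDefEq.respectTransparency.types false
set_option linter.all false
set_option maxHeartbeats 1000000
universe u

open Pointwise GenFibNearLib MvPolynomial
open scoped TensorProduct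

namespace RelDimLib

theorem weakAss_finite_domain (D : Type u) [CommRing D] [IsDomain D] : (FlatCA.weakAss D D).Finite := by
  refine (Set.finite_singleton (⊥ : Ideal D)).subset fun q hq => ?_
  obtain ⟨m, hm⟩ := hq
  have hm0 : m ≠ 0 := by
    rintro rfl
    rw [Submodule.span_zero_singleton, Submodule.annihilator_bot] at hm
    exact hm.1.1.ne_top (top_le_iff.1 hm.1.2)
  have hz : (Submodule.span D {m}).annihilator = ⊥ := by
    ext r
    rw [Submodule.mem_annihilator_span_singleton, Submodule.mem_bot, smul_eq_mul]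
    exact ⟨fun h => (mul_eq_zero.1 h).resolve_right hm0, fun h => by rw [h, zero_mul]⟩
  rw [hz] at hm
  exact le_antisymm (hm.2 ⟨Ideal.isPrime_bot, le_rfl⟩ bot_le) bot_le

/-- The fibre at a point lying over `I` is flat over `S ⧸ I` when that is generic in it. -/
theorem fibFlat_of_comap_eq {S A N : Type u} [CommRing S] [CommRing A] [Algebra S A] [AddCommGroup N] [Module S N]
    [Module A N] [IsScalarTower S A N] (I : Ideal S) [I.IsPrime] (q : PrimeSpectrum A)
    (hI : q.asIdeal.comap (algebraMap S A) = I) : FlatLib.FibFlat S A N I q.asIdeal := by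
  let T := q.asIdeal.primeCompl
  let L := LocalizedModule T N
  let ℓ := LocalizedModule.mkLinearMap T N
  haveI : IsScalarTower S A L := IsScalarTower.of_algebraMap_smul fun G x => by
    induction x using LocalizedModule.induction_on with
    | h a s => rw [LocalizedModule.smul'_mk, LocalizedModule.smul'_mk, algebraMap_smul]
  rw [FlatLib.fibFlat_iff q.asIdeal ℓ]
  let M' := (S ⧸ I) ⊗[S] L
  let U := nonZeroDivisors (S ⧸ I)
  haveI : IsLocalizedModule U (LinearMap.id : M' →ₗ[S ⧸ I] M') := by
    refine ⟨fun t ↦ ?_, fun y ↦ ⟨⟨y, 1⟩, one_smul _ y⟩, fun h ↦ ⟨1, by simpa using h⟩⟩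
    obtain ⟨a, ha⟩ := Ideal.Quotient.mk_surjective (t : S ⧸ I)
    have haI : a ∉ I := fun h ↦ nonZeroDivisors.ne_zero t.2
      (ha.symm.trans (Ideal.Quotient.eq_zero_iff_mem.mpr h))
    have hu := (Module.End.isUnit_iff _).1 (IsLocalizedModule.map_units ℓ
      (⟨algebraMap S A a, fun h ↦ haI (hI.le h)⟩ : T))
    have hb : Function.Bijective (LinearMap.lsmul S L a) := by
      have : (⇑(LinearMap.lsmul S L a)) = fun x => algebraMap S A a • x :=
        funext fun x => (algebraMap_smul A a x).symm
      rw [this]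
      exact hu
    rw [Module.End.isUnit_iff]
    have e : ∀ z : M', (t : S ⧸ I) • z = (LinearMap.lTensor (S ⧸ I) (LinearMap.lsmul S L a)) z := fun z ↦ by
      rw [← ha]
      induction z using TensorProduct.induction_on with
      | zero => simp
      | add z w hz hw => rw [smul_add, map_add, hz, hw]
      | tmul x y =>
        rw [TensorProduct.smul_tmul', LinearMap.lTensor_tmul, LinearMap.lsmul_apply, ← TensorProduct.smul_tmul]
        rfl
    show Function.Bijective fun z : M' ↦ (t : S ⧸ I) • z
    rw [funext e]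
    exact (LinearEquiv.lTensor (S ⧸ I) (LinearEquiv.ofBijective _ hb)).bijective
  let K := FractionRing (S ⧸ I)
  haveI : Module.Flat (S ⧸ I) K := IsLocalization.flat K U
  haveI : Module.Free K (K ⊗[S ⧸ I] M') := Module.Free.of_divisionRing K _
  haveI : Module.Flat K (K ⊗[S ⧸ I] M') := Module.Flat.of_free
  haveI : Module.Flat (S ⧸ I) (K ⊗[S ⧸ I] M') := Module.Flat.trans (S ⧸ I) K _
  haveI : IsLocalizedModule U (TensorProduct.mk (S ⧸ I) K M' 1) :=
    (isLocalizedModule_iff_isBaseChange U K _).mpr (TensorProduct.isBaseChange (S ⧸ I) M' K)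
  exact Module.Flat.of_linearEquiv (IsLocalizedModule.linearEquiv U (LinearMap.id : M' →ₗ[S ⧸ I] M')
    (TensorProduct.mk (S ⧸ I) K M' 1))

/-- A flat point which is generic in its fibre over a domain `S` has no `S`-torsion. -/
theorem smul_ne_zero_of_flat {D S A N : Type u} [CommRing D] [CommRing S] [IsDomain S] [CommRing A] [Algebra D S]
    [Algebra D A] [Algebra S A] [IsScalarTower D S A] [Algebra.FiniteType D S] [Algebra.FinitePresentation D A]
    [AddCommGroup N] [Module D N] [Module S N] [Module A N] [IsScalarTower D S N] [IsScalarTower D A N]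
    [IsScalarTower S A N] [Module.FinitePresentation A N] [Module.Flat D N] (q : PrimeSpectrum A)
    (hI : q.asIdeal.comap (algebraMap S A) = (q.asIdeal.comap (algebraMap D A)).map (algebraMap D S))
    (x : N) (hx : ∀ c : A, c ∉ q.asIdeal → c • x ≠ 0) (G : S) (hG : G ≠ 0) : G • x ≠ 0 := by
  let T := q.asIdeal.primeCompl
  let L := LocalizedModule T N
  let ℓ := LocalizedModule.mkLinearMap T N
  haveI : ((q.asIdeal.comap (algebraMap D A)).map (algebraMap D S)).IsPrime := hI ▸ inferInstance
  have hne : ℓ x ≠ 0 := fun h0 => by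
    obtain ⟨c, hc⟩ := (IsLocalizedModule.eq_zero_iff T ℓ).1 h0
    exact hx c c.2 hc
  haveI hnt : Nontrivial L := ⟨⟨_, _, hne⟩⟩
  have hqflat : q ∈ FlatLib.flatLocus D A N := FlatInjLib.flat_of_isLocalizedModule T ℓ
  obtain ⟨O, -, hqO, hO⟩ := FlatLib.exists_open_of_fibFlat (R := D) (S := S) q hqflat
    (fibFlat_of_comap_eq _ q hI) hnt
  haveI : Module.Flat S L := (hO q hqO).1
  intro h
  refine hne ((Module.Flat.isSMulRegular_of_nonZeroDivisors (M := L)
    (mem_nonZeroDivisors_of_ne_zero hG)).right_eq_zero_of_smul ?_)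
  rw [← LinearMap.map_smul_of_tower, h, map_zero]

section Domain

variable {D B : Type u} [CommRing D] [IsDomain D] [CommRing B] [Algebra D B] [Algebra.FiniteType D B]
  {M : Type u} [AddCommGroup M] [Module B M] [Module D M] [IsScalarTower D B M] [Module.Finite B M]

/-- Abstract form of `comap_eq_bot`. -/
theorem comap_eq_bot_aux {S A : Type u} [CommRing S] [IsDomain S] [Algebra D S] [Algebra.FiniteType D S]
    [CommRing A] [Algebra D A] [Algebra.FinitePresentation D A] [Algebra A B] [IsScalarTower D A B]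
    [Module A M] [IsScalarTower A B M] [IsScalarTower D A M] [Module.Finite A M]
    (hinj : Function.Injective (algebraMap D S)) (π : A →ₐ[D] B) (hπA : ∀ x, algebraMap A B x = π x)
    (hπs : Function.Surjective (algebraMap A B)) (ψ : S →ₐ[D] A) (φ : S →ₐ[D] B) (hψ : ∀ G, π (ψ G) = φ G)
    (P Q : Ideal B) [P.IsPrime] [Q.IsPrime]
    (hQP : Q ≤ P) (hflat : FlatCA.FlatAt D P M)
    (hP : P.comap φ = (P.comap (algebraMap D B)).map (algebraMap D S)) (m : M)
    (hm : ∀ b ∈ Q, ∃ r : D, r ≠ 0 ∧ r • b • m = 0)
    (hm' : ∀ (b : B) (r : D), r ≠ 0 → r • b • m = 0 → b ∈ Q) : Q.comap φ = ⊥ := by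
  let P₀ := P.comap (algebraMap A B)
  obtain ⟨g, hg, -, hfp, hfl⟩ := FlatInjLib.exists_away_fp_flat (N := M) (weakAss_finite_domain D) P₀
    ((FlatInjLib.flatAt_comap_iff hπs P).2 hflat)
  let Ag := Localization.Away g
  let Mg := LocalizedModule (Submonoid.powers g) M
  haveI : Module.FinitePresentation Ag Mg := hfp
  haveI : Module.Flat D Mg := hfl
  haveI : Algebra.FinitePresentation A Ag := IsLocalization.Away.finitePresentation g
  haveI : Algebra.FinitePresentation D Ag := Algebra.FinitePresentation.trans D A Ag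
  haveI : IsScalarTower D Ag Mg := IsScalarTower.of_algebraMap_smul fun r x => by
    rw [IsScalarTower.algebraMap_apply D A Ag, algebraMap_smul, algebraMap_smul]
  letI : Algebra S Ag := ((algebraMap A Ag).comp ψ.toRingHom).toAlgebra
  have hSA : ∀ G : S, algebraMap S Ag G = algebraMap A Ag (ψ G) := fun _ => rfl
  haveI : IsScalarTower D S Ag := IsScalarTower.of_algebraMap_eq fun r => by
    rw [hSA, AlgHom.commutes, ← IsScalarTower.algebraMap_apply]
  letI : Module S Mg := Module.compHom Mg (algebraMap S Ag)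
  haveI : IsScalarTower S Ag Mg := IsScalarTower.of_algebraMap_smul fun _ _ => rfl
  haveI : IsScalarTower D S Mg := IsScalarTower.of_algebraMap_smul fun r x => by
    rw [← algebraMap_smul Ag (algebraMap D S r) x, ← IsScalarTower.algebraMap_apply, algebraMap_smul]
  have hdis : Disjoint (Submonoid.powers g : Set A) (P₀ : Set A) := by
    rw [Set.disjoint_left]
    rintro _ ⟨k, rfl⟩ h
    exact hg ((inferInstance : P₀.IsPrime).mem_of_pow_mem k h)
  haveI hqp : (P₀.map (algebraMap A Ag)).IsPrime :=
    IsLocalization.isPrime_of_isPrime_disjoint (Submonoid.powers g) Ag P₀ inferInstance hdis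
  let q : PrimeSpectrum Ag := ⟨P₀.map (algebraMap A Ag), hqp⟩
  have hqA : ∀ a : A, algebraMap A Ag a ∈ q.asIdeal ↔ π a ∈ P := fun a => by
    show a ∈ (P₀.map (algebraMap A Ag)).comap (algebraMap A Ag) ↔ _
    rw [← Ideal.under_def, IsLocalization.under_map_of_isPrime_disjoint (Submonoid.powers g) Ag inferInstance hdis]
    rw [← hπA]; rfl
  let I : Ideal S := (q.asIdeal.comap (algebraMap D Ag)).map (algebraMap D S)
  have hI : q.asIdeal.comap (algebraMap S Ag) = I := by
    have h1 : q.asIdeal.comap (algebraMap S Ag) = P.comap φ := Ideal.ext fun G => by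
      rw [Ideal.mem_comap, hSA, hqA, hψ, Ideal.mem_comap]
    have h2 : q.asIdeal.comap (algebraMap D Ag) = P.comap (algebraMap D B) := Ideal.ext fun r => by
      rw [Ideal.mem_comap, IsScalarTower.algebraMap_apply D A Ag, hqA, π.commutes, Ideal.mem_comap]
    rw [h1, hP]
    show _ = Ideal.map (algebraMap D S) _
    rw [h2]
  let mg : Mg := LocalizedModule.mkLinearMap (Submonoid.powers g) M m
  have hne : ∀ c : Ag, c ∉ q.asIdeal → c • mg ≠ 0 := by
    intro s hs hsm
    obtain ⟨⟨a, w⟩, hw⟩ := IsLocalization.surj (Submonoid.powers g) s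
    have haP : π a ∉ P := fun h => by
      have h' := (hqA a).2 h
      rw [← hw] at h'
      rcases hqp.mem_or_mem h' with h' | h'
      · exact hs h'
      · exact hqp.ne_top (Ideal.eq_top_of_isUnit_mem _ h' (IsLocalization.map_units Ag w))
    have h1 : a • mg = 0 := by
      rw [← algebraMap_smul Ag a mg, ← hw, mul_comm, mul_smul, hsm, smul_zero]
    rw [show a • mg = LocalizedModule.mkLinearMap (Submonoid.powers g) M (a • m) from (map_smul _ a m).symm] at h1
    obtain ⟨⟨_, k, rfl⟩, hk⟩ := (IsLocalizedModule.eq_zero_iff (Submonoid.powers g)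
      (LocalizedModule.mkLinearMap (Submonoid.powers g) M)).1 h1
    have h2 : π (g ^ k * a) • m = 0 := by
      rw [← hπA, algebraMap_smul, mul_smul]
      exact hk
    have h3 : π (g ^ k * a) ∈ P := hQP (hm' _ 1 one_ne_zero (by rw [one_smul]; exact h2))
    rw [map_mul, map_pow] at h3
    exact ((inferInstance : P.IsPrime).mem_or_mem h3).elim
      (fun h => hg (by
        show algebraMap A B g ∈ P
        rw [hπA]
        exact (inferInstance : P.IsPrime).mem_of_pow_mem k h)) haP
  rw [eq_bot_iff]
  intro G hG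
  by_contra hG0
  rw [Ideal.mem_bot] at hG0
  obtain ⟨r, hr, hrm⟩ := hm _ hG
  refine smul_ne_zero_of_flat (D := D) (S := S) q hI mg hne (algebraMap D S r * G) (mul_ne_zero (fun h => hr (hinj (h.trans (map_zero _).symm))) hG0) ?_
  have h4 : ψ (algebraMap D S r * G) • m = 0 := by
    rw [← algebraMap_smul B (ψ (algebraMap D S r * G)) m, hπA, hψ, map_mul, mul_smul,
      φ.commutes r, algebraMap_smul]
    exact hrm
  rw [← algebraMap_smul Ag (algebraMap D S r * G : S) mg, hSA, algebraMap_smul,
    ← map_smul (LocalizedModule.mkLinearMap (Submonoid.powers g) M), h4, map_zero]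


/-- Over a domain, a flat point whose coordinates are generic in its fibre has generizations in the
support with generic coordinates. -/
theorem comap_eq_bot {d : ℕ} (φ : MvPolynomial (Fin d) D →ₐ[D] B) (P Q : Ideal B) [P.IsPrime] [Q.IsPrime]
    (hQP : Q ≤ P) (hflat : FlatCA.FlatAt D P M)
    (hP : P.comap φ = (P.comap (algebraMap D B)).map C) (m : M)
    (hm : ∀ b ∈ Q, ∃ r : D, r ≠ 0 ∧ r • b • m = 0)
    (hm' : ∀ (b : B) (r : D), r ≠ 0 → r • b • m = 0 → b ∈ Q) : Q.comap φ = ⊥ := by
  classical
  obtain ⟨n, π, hπ⟩ := Algebra.FiniteType.iff_quotient_mvPolynomial''.1 (inferInstance : Algebra.FiniteType D B)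
  let A := MvPolynomial (Fin n) D
  letI : Algebra A B := π.toRingHom.toAlgebra
  haveI : IsScalarTower D A B := IsScalarTower.of_algebraMap_eq fun x => (π.commutes x).symm
  letI : Module A M := Module.compHom M (algebraMap A B)
  haveI : IsScalarTower A B M := IsScalarTower.of_compHom _ _ _
  haveI : IsScalarTower D A M := IsScalarTower.of_algebraMap_smul fun r x => by
    show algebraMap A B (algebraMap D A r) • x = r • x
    rw [← IsScalarTower.algebraMap_apply, algebraMap_smul]
  haveI : Module.Finite A B := Module.Finite.of_surjective (Algebra.linearMap A B) hπ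
  haveI : Module.Finite A M := Module.Finite.trans B M
  choose t ht using fun i => hπ (φ (X i))
  let ψ : MvPolynomial (Fin d) D →ₐ[D] A := aeval t
  have hψ : ∀ G, π (ψ G) = φ G := fun G => by
    have : π.comp ψ = φ := MvPolynomial.algHom_ext fun i => by
      show π (aeval t (X i)) = _
      rw [aeval_X, ht]
    exact DFunLike.congr_fun this G
  exact comap_eq_bot_aux (C_injective _ _) π (fun _ => rfl) hπ ψ φ hψ P Q hQP hflat hP m hm hm'

end Domain

section General

variable {R B : Type u} [CommRing R] [CommRing B] [Algebra R B] [Algebra.FiniteType R B]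
  {M : Type u} [AddCommGroup M] [Module B M] [Module R M] [IsScalarTower R B M] [Module.Finite B M]

/-- Generic coordinates spread from a flat point to the points of the relative assassin above it. -/
theorem comap_eq_map_C {d : ℕ} (φ : MvPolynomial (Fin d) R →ₐ[R] B) (a : Ideal R) [a.IsPrime]
    (P Q : Ideal B) [P.IsPrime] [Q.IsPrime] (hQP : Q ≤ P) (hQa : Q.comap (algebraMap R B) = a)
    (hflat : FlatCA.FlatAt R P M) (hP : P.comap φ = (P.comap (algebraMap R B)).map C) (m : M)
    (hm : Q ≤ annAt a m) (hm' : annAt a m ≤ Q) : Q.comap φ = a.map C := by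
  classical
  let aB := a.map (algebraMap R B)
  let D := R ⧸ a
  let B' := B ⧸ aB
  let M' := Groth.Agent.CompSetLib.QMod (B := B) M a
  let μ : D →+* B' := Ideal.quotientMap aB (algebraMap R B) Ideal.le_comap_map
  letI : Algebra D B' := μ.toAlgebra
  have hμ : ∀ r : R, algebraMap D B' (Ideal.Quotient.mk a r) = Ideal.Quotient.mk aB (algebraMap R B r) :=
    fun _ => rfl
  letI : Module D M' := Groth.Agent.CompSetLib.qModule B M a
  haveI : IsScalarTower D B' M' := IsScalarTower.of_algebraMap_smul fun _ _ => rfl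
  haveI : Module.Finite B' M' := Module.Finite.of_restrictScalars_finite B _ _
  haveI : Algebra.FiniteType D B' := RingHom.finiteType_algebraMap.1 <| by
    refine RingHom.FiniteType.of_comp_finiteType (f := Ideal.Quotient.mk a) ?_
    exact (RingHom.FiniteType.of_surjective _ (Ideal.Quotient.mk_surjective (I := aB))).comp
      (RingHom.finiteType_algebraMap.2 ‹Algebra.FiniteType R B›)
  have haQ : aB ≤ Q := Ideal.map_le_iff_le_comap.2 hQa.ge
  have haP : aB ≤ P := haQ.trans hQP
  let P' := P.map (Ideal.Quotient.mk aB)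
  let Q' := Q.map (Ideal.Quotient.mk aB)
  haveI : P'.IsPrime := Ideal.map_isPrime_of_surjective Ideal.Quotient.mk_surjective (by rw [Ideal.mk_ker]; exact haP)
  haveI : Q'.IsPrime := Ideal.map_isPrime_of_surjective Ideal.Quotient.mk_surjective (by rw [Ideal.mk_ker]; exact haQ)
  have hPm : ∀ b, Ideal.Quotient.mk aB b ∈ P' ↔ b ∈ P := fun b => Ideal.mem_quotient_iff_mem haP
  have hQm : ∀ b, Ideal.Quotient.mk aB b ∈ Q' ↔ b ∈ Q := fun b => Ideal.mem_quotient_iff_mem haQ
  haveI : IsScalarTower R D M' := IsScalarTower.of_algebraMap_smul fun r x => by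
    obtain ⟨x, rfl⟩ := Submodule.Quotient.mk_surjective _ x
    rw [Ideal.Quotient.algebraMap_eq]
    exact Groth.Agent.CompSetLib.q_mk_smul a r x
  have hflat' : FlatCA.FlatAt D P' M' := by
    haveI : Module.Flat R (LocalizedModule P.primeCompl M) := hflat
    let E := LocalizedModule P'.primeCompl M'
    haveI : IsScalarTower B B' E := IsScalarTower.of_algebraMap_smul fun b x => by
      induction x using LocalizedModule.induction_on with
      | h a s => rw [LocalizedModule.smul'_mk, LocalizedModule.smul'_mk, algebraMap_smul]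
    have hc : P'.comap (algebraMap B B') = P := Ideal.ext fun b => hPm b
    haveI := FlatInjLib.isLocalizedModule_restrict_prime (P := B) Ideal.Quotient.mk_surjective P'
      (LocalizedModule.mkLinearMap P'.primeCompl M')
    have hcompl : (P'.comap (algebraMap B B')).primeCompl = P.primeCompl := Submonoid.ext fun b => (hPm b).not
    haveI : IsLocalizedModule P.primeCompl ((LocalizedModule.mkLinearMap P'.primeCompl M').restrictScalars B) :=
      hcompl ▸ this
    let e₁ : D ⊗[R] LocalizedModule P.primeCompl M ≃ₗ[R] LocalizedModule P.primeCompl M' :=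
      FlatLib.quotientLocalizedEquiv a P.primeCompl
    let e₂ : LocalizedModule P.primeCompl M' ≃ₗ[B] E :=
      IsLocalizedModule.iso P.primeCompl ((LocalizedModule.mkLinearMap P'.primeCompl M').restrictScalars B)
    haveI : IsScalarTower R D E := IsScalarTower.of_algebraMap_smul fun r x => by
      induction x using LocalizedModule.induction_on with
      | h a s => rw [LocalizedModule.smul'_mk, LocalizedModule.smul'_mk, algebraMap_smul]
    let e := e₁.trans (e₂.restrictScalars R)
    let eD : D ⊗[R] LocalizedModule P.primeCompl M ≃ₗ[D] E :=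
      { e with
        map_smul' := fun c x => by
          obtain ⟨c, rfl⟩ := Ideal.Quotient.mk_surjective c
          show e (algebraMap R D c • x) = algebraMap R D c • e x
          rw [algebraMap_smul, algebraMap_smul, map_smul] }
    exact Module.Flat.of_linearEquiv eD.symm
  let θ : MvPolynomial (Fin d) R →+* MvPolynomial (Fin d) D := MvPolynomial.map (Ideal.Quotient.mk a)
  have hθ : Function.Surjective θ := MvPolynomial.map_surjective _ Ideal.Quotient.mk_surjective
  let φ' : MvPolynomial (Fin d) D →ₐ[D] B' := aeval fun i => Ideal.Quotient.mk aB (φ (X i))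
  have hφ : ∀ G, φ' (θ G) = Ideal.Quotient.mk aB (φ G) := fun G => by
    have : (φ'.toRingHom.comp θ) = (Ideal.Quotient.mk aB).comp φ.toRingHom :=
      MvPolynomial.ringHom_ext (fun r => by
        show φ' (θ (C r)) = Ideal.Quotient.mk aB (φ (C r))
        rw [show φ (C r) = algebraMap R B r from φ.commutes r, show θ (C r) = C (Ideal.Quotient.mk a r) from map_C _ r,
          show φ' (C (Ideal.Quotient.mk a r)) = algebraMap D B' (Ideal.Quotient.mk a r) from φ'.commutes _, hμ])
      (fun i => by
        show φ' (θ (X i)) = Ideal.Quotient.mk aB (φ (X i))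
        rw [show θ (X i) = X i from map_X _ i]
        exact aeval_X _ i)
    exact RingHom.congr_fun this G
  have hP' : P'.comap φ' = (P'.comap (algebraMap D B')).map C := by
    have h1 : (P'.comap φ').comap θ = P.comap φ := Ideal.ext fun G => by
      rw [Ideal.mem_comap, Ideal.mem_comap, hφ, hPm, Ideal.mem_comap]
    have h2 : P'.comap (algebraMap D B') = (P.comap (algebraMap R B)).map (Ideal.Quotient.mk a) := by
      refine le_antisymm (fun c hc => ?_) (Ideal.map_le_iff_le_comap.2 fun r hr => ?_)
      · obtain ⟨c, rfl⟩ := Ideal.Quotient.mk_surjective c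
        refine Ideal.mem_map_of_mem _ ?_
        rwa [Ideal.mem_comap, hμ, hPm] at hc
      · rw [Ideal.mem_comap, Ideal.mem_comap, hμ, hPm]
        exact hr
    rw [← Ideal.map_comap_of_surjective θ hθ (P'.comap φ'), h1, hP, h2, Ideal.map_map, Ideal.map_map]
    congr 1
    exact RingHom.ext fun r => MvPolynomial.map_C _ r
  have h0 : ∀ r, Ideal.Quotient.mk a r ∈ (⊥ : Ideal D) ↔ r ∈ a := fun r => by
    rw [Submodule.mem_bot]; exact Ideal.Quotient.eq_zero_iff_mem
  let mb : M' := Submodule.Quotient.mk m
  have hb : ∀ b : B, Ideal.Quotient.mk aB b • mb = Submodule.Quotient.mk (b • m) := fun b => rfl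
  have key := comap_eq_bot φ' P' Q' (Ideal.map_mono hQP) hflat' hP' mb
    (fun b hbQ => by
      obtain ⟨b, rfl⟩ := Ideal.Quotient.mk_surjective b
      have h := (Groth.Agent.CompSetLib.zeroAt_q_iff (B := B) a a le_rfl (⊥ : Ideal D) h0 (b • m)).2 (hm ((hQm b).1 hbQ))
      obtain ⟨r, hr, h'⟩ := h
      refine ⟨r, fun he => hr (Submodule.mem_bot (R := D) |>.2 he), ?_⟩
      rw [hb]
      simpa using h')
    (fun b r hr h => by
      obtain ⟨b, rfl⟩ := Ideal.Quotient.mk_surjective b
      rw [hQm]
      refine hm' ((Groth.Agent.CompSetLib.zeroAt_q_iff (B := B) a a le_rfl (⊥ : Ideal D) h0 (b • m)).1 ⟨r, fun he => hr ((Submodule.mem_bot (R := D)).1 he), ?_⟩)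
      rw [hb] at h
      rw [h]
      exact zero_mem _)
  have h3 : (Q'.comap φ').comap θ = Q.comap φ := Ideal.ext fun G => by
    rw [Ideal.mem_comap, Ideal.mem_comap, hφ, hQm, Ideal.mem_comap]
  rw [← h3, key, ← RingHom.ker_eq_comap_bot, MvPolynomial.ker_map, Ideal.mk_ker]

/-- A point which is minimal in its fibre above a point of the relative assassin and at which the
module is flat is in the relative assassin. -/
theorem exists_annAt_eq (a p : Ideal R) [a.IsPrime] [p.IsPrime] (P Q : Ideal B) [P.IsPrime] [Q.IsPrime]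
    (hQP : Q ≤ P) (hPp : P.comap (algebraMap R B) = p) (hflat : FlatCA.FlatAt R P M)
    (hmin : ∀ P' : Ideal B, P'.IsPrime → Q ≤ P' → P' ≤ P → P'.comap (algebraMap R B) = p → P' = P)
    (m : M) (hm : Q ≤ annAt a m) (hm' : annAt a m ≤ Q) :
    ∃ n : M, annAt p n = P := by
  classical
  haveI : P.LiesOver p := ⟨hPp.symm⟩
  haveI : IsNoetherianRing (p.Fiber B) := Algebra.FiniteType.isNoetherianRing p.ResidueField _
  haveI : Module.Finite (p.Fiber B) (FlatCA.fiberMod p B M) := by
    letI : Algebra B (p.Fiber B) := Algebra.TensorProduct.rightAlgebra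
    exact Module.Finite.base_change B (p.Fiber B) M
  obtain ⟨J, hJ, hJP⟩ : ∃ J ∈ associatedPrimes (p.Fiber B) (FlatCA.fiberMod p B M),
      J.comap (FibAssLib.incl B p) = P := by
    by_contra hno
    push Not at hno
    let T := (associatedPrimes.finite (p.Fiber B) (FlatCA.fiberMod p B M)).toFinset.filter
      fun J => J.comap (FibAssLib.incl B p) ≤ P
    obtain ⟨g, hgQ, hg⟩ : ∃ g ∈ Q, ∀ J ∈ T, g ∉ J.comap (FibAssLib.incl B p) := by
      have h1 : ¬ (Q : Set B) ⊆ ⋃ J ∈ (T : Set (Ideal (p.Fiber B))), ↑(J.comap (FibAssLib.incl B p)) := by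
        intro hsub
        obtain ⟨J, hJ, hQJ⟩ := (Ideal.subset_union_prime (f := fun J : Ideal (p.Fiber B) => J.comap (FibAssLib.incl B p))
          ⊤ ⊥ fun J hJ _ _ => by
            haveI : J.IsPrime := IsAssociatedPrime.isPrime ((Set.Finite.mem_toFinset _).1 (Finset.mem_filter.1 hJ).1)
            exact Ideal.IsPrime.comap _).1 hsub
        have hJ' := (Set.Finite.mem_toFinset _).1 (Finset.mem_filter.1 hJ).1
        haveI : J.IsPrime := IsAssociatedPrime.isPrime hJ'
        haveI := FlatInjLib.comap_incl_liesOver p J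
        exact hno J hJ' (hmin _ inferInstance hQJ (Finset.mem_filter.1 hJ).2
          (Ideal.over_def (J.comap (FibAssLib.incl B p)) p).symm)
      obtain ⟨g, hg, hg'⟩ := Set.not_subset.1 h1
      exact ⟨g, hg, fun J hJ h => hg' (Set.mem_iUnion₂.2 ⟨J, hJ, h⟩)⟩
    obtain ⟨r, hr, hrg⟩ := hm hgQ
    have hmk : ∀ z : M, z ⊗ₜ[R] (1 : R ⧸ a) = 0 ↔ z ∈ a • (⊤ : Submodule R M) := fun z => by
      rw [← LinearMap.ker_tensorProductMk (R := R) (Q := M) (I := a), LinearMap.mem_ker,
        ← (TensorProduct.comm R M (R ⧸ a)).map_eq_zero_iff]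
      rfl
    obtain ⟨s, hs, hsz⟩ := FlatInjLib.exists_smul_eq_zero_of_smul_eq_zero p P hflat g
      (fun J hJ hJP => hg J (Finset.mem_filter.2 ⟨(Set.Finite.mem_toFinset _).2 hJ, hJP⟩))
      (R ⧸ a) ((r • m) ⊗ₜ[R] 1)
      (by rw [TensorProduct.smul_tmul', smul_comm, hmk]; exact hrg)
    rw [TensorProduct.smul_tmul', smul_comm, hmk] at hsz
    exact hs (hQP (hm' ⟨r, hr, hsz⟩))
  have hJ' : J ∈ FlatCA.ass (p.Fiber B) (FlatCA.fiberMod p B M) := by
    obtain ⟨hp', x, hx⟩ := isAssociatedPrime_iff.1 hJ
    refine ⟨hp', x, hx.trans (Ideal.ext fun c => ?_)⟩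
    rw [Submodule.mem_colon_singleton, Submodule.mem_bot, Submodule.mem_annihilator_span_singleton]
  obtain ⟨z, hz⟩ := FibAssLib.exists_β_of_mem_ass p (hJP ▸ FibAssLib.comap_mem_ass p hJ')
  obtain ⟨n, rfl⟩ := Submodule.Quotient.mk_surjective _ z
  refine ⟨n, Ideal.ext fun b => ?_⟩
  rw [hz, Submodule.mem_annihilator_span_singleton, ← map_smul, ← Submodule.Quotient.mk_smul]
  constructor
  · rintro ⟨t, ht, h⟩
    rw [FlatInjLib.mem_smul_top_iff_map (B := B)] at h
    refine FibAssLib.eq_zero_of_smul p ht ?_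
    rw [← map_smul, ← Submodule.Quotient.mk_smul, algebraMap_smul, (Submodule.Quotient.mk_eq_zero _).2 h, map_zero]
  · intro h
    obtain ⟨t, ht, h'⟩ := FibAssLib.exists_smul_eq_zero_of_β p h
    refine ⟨t, ht, ?_⟩
    rw [FlatInjLib.mem_smul_top_iff_map (B := B)]
    rw [← Submodule.Quotient.mk_smul] at h'
    exact (Submodule.Quotient.mk_eq_zero _).1 h'

end General

end RelDimLib
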