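import Groth.Agent.RelDimLib.Alg
import Groth.Agent.FlatLib.QStalk
import Groth.Agent.FibDimLib.QFScheme
import Groth.Agent.UOpenLib.FibreDim
import Mathlib

/-! # The closure of a relative associated point is equidimensional over the base -/

set_option autoImplicit false
set_option backward.isDefEq.respectTransparency false
set_option backward.isDefEq.respectTransparency.types false
set_option linter.all false
set_option maxHeartbeats 2000000
universe u

open Pointwise GenFibNearLib AlgebraicGeometry CategoryTheory DevissLib MvPolynomial TopologicalSpace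

namespace RelDimLib

variable {X S : Scheme.{u}} (f : X ⟶ S) [LocallyOfFiniteType f] (F : X.Modules) [Coh.IsQCoh F]

section Chart

variable {W : S.Opens} (hW : IsAffineOpen W) {V : X.Opens} (hV : IsAffineOpen V) (e : V ≤ f ⁻¹ᵁ W)

include hW hV in
/-- An element of the sections of a chart cutting out a point of the relative assassin. -/
theorem exists_annAt (y : X) (hyV : y ∈ V) (hy : y ∈ MoreMor.relAss f F) :
    letI := chartAlg f e; letI := chartMod f F e; haveI := chartTower f F e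
    haveI : (hW.primeIdealOf ⟨f y, e hyV⟩).asIdeal.IsPrime := (hW.primeIdealOf ⟨f y, e hyV⟩).2
    ∃ m : Γ(F, V), (hV.primeIdealOf ⟨y, hyV⟩).asIdeal ≤ annAt (hW.primeIdealOf ⟨f y, e hyV⟩).asIdeal m ∧
      annAt (hW.primeIdealOf ⟨f y, e hyV⟩).asIdeal m ≤ (hV.primeIdealOf ⟨y, hyV⟩).asIdeal := by
  letI := chartAlg f e
  letI := chartMod f F e
  haveI := chartTower f F e
  haveI : Algebra.FiniteType Γ(S, W) Γ(X, V) := RingHom.finiteType_algebraMap.1 (f.finiteType_appLE hW hV e)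
  letI := stalkMod F hyV
  haveI := isLocalizedModule_gmLin F hV hyV
  letI := X.presheaf.algebra_section_stalk (⟨y, hyV⟩ : V)
  haveI : IsLocalization.AtPrime (X.presheaf.stalk y) (hV.primeIdealOf ⟨y, hyV⟩).asIdeal :=
    hV.isLocalization_stalk ⟨y, hyV⟩
  letI : Algebra Γ(S, W) (X.presheaf.stalk y) :=
    ((X.presheaf.germ V y hyV).hom.comp (f.appLE W V e).hom).toAlgebra
  haveI : IsScalarTower Γ(S, W) Γ(X, V) (X.presheaf.stalk y) := IsScalarTower.of_algebraMap_eq fun _ => rfl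
  haveI : IsScalarTower Γ(X, V) (X.presheaf.stalk y) ((St y).obj F) :=
    IsScalarTower.of_algebraMap_smul fun _ _ => rfl
  refine Groth.Agent.CompSetLib.exists_annAt_eq_of_isAssociated (ML := (St y).obj F) (BL := X.presheaf.stalk y)
    (hV.primeIdealOf ⟨y, hyV⟩).asIdeal (gmLin F hyV) (hW.primeIdealOf ⟨f y, e hyV⟩).asIdeal
    (comap_primeIdealOf' f hW hV e hyV) ?_
  rw [RingHom.algebraMap_toAlgebra, ← stalk_ideal_eq f hW e hyV]
  exact hy

end Chart

variable (hFT : CohB1.IsFT F) (y : X) (hy : y ∈ MoreMor.relAss f F)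

include hFT hy in
/-- A flat maximal point of a fibre of the closure of a relative associated point is one. -/
theorem mem_relAss_of_max (x : X) (hsp : y ⤳ x)
    (hmax : ∀ z : X, f.base z = f.base x → y ⤳ z → z ⤳ x → z = x) (hfl : FlatMod.IsFlatOverAt f F x) :
    x ∈ MoreMor.relAss f F := by
  obtain ⟨W, hW, hfx, -⟩ := exists_isAffineOpen_mem_and_subset (x := f.base x) (U := ⊤) trivial
  obtain ⟨V, hV, hxV, (e : V ≤ f ⁻¹ᵁ W)⟩ := exists_isAffineOpen_mem_and_subset (x := x) (U := f ⁻¹ᵁ W) hfx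
  have hyV : y ∈ V := hsp.mem_open V.isOpen hxV
  obtain ⟨m, hm₁, hm₂⟩ := exists_annAt f F hW hV e y hyV hy
  letI := chartAlg f e
  letI := chartMod f F e
  haveI := chartTower f F e
  haveI : Algebra.FiniteType Γ(S, W) Γ(X, V) := RingHom.finiteType_algebraMap.1 (f.finiteType_appLE hW hV e)
  haveI : Module.Finite Γ(X, V) Γ(F, V) := QCohLib.finite_of_isFT hFT hV
  let a := (hW.primeIdealOf ⟨f y, e hyV⟩).asIdeal
  haveI : a.IsPrime := (hW.primeIdealOf ⟨f y, e hyV⟩).2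
  let P := hV.primeIdealOf ⟨x, hxV⟩
  let p := (hW.primeIdealOf ⟨f x, e hxV⟩).asIdeal
  haveI : p.IsPrime := (hW.primeIdealOf ⟨f x, e hxV⟩).2
  haveI : P.asIdeal.IsPrime := P.2
  let Q := hV.primeIdealOf ⟨y, hyV⟩
  haveI : Q.asIdeal.IsPrime := Q.2
  have hflat : FlatCA.FlatAt Γ(S, W) P.asIdeal Γ(F, V) :=
    (FlatLib.isFlatOverAt_iff f F W hW V hV e hxV rfl).1 hfl
  obtain ⟨n, hn⟩ := exists_annAt_eq (B := Γ(X, V)) (M := Γ(F, V)) a p P.asIdeal Q.asIdeal
    ((UOpenLib.primeIdealOf_le_iff hV hyV hxV).2 hsp) (comap_primeIdealOf' f hW hV e hxV) hflat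
    (fun P' hP' hQP' hP'P hP'p => by
      obtain ⟨z, hz, hzP⟩ := UOpenLib.exists_point_of_prime hV ⟨P', hP'⟩
      have hyz : y ⤳ z := (UOpenLib.primeIdealOf_le_iff hV hyV hz).1 (hzP ▸ hQP')
      have hzx : z ⤳ x := (UOpenLib.primeIdealOf_le_iff hV hz hxV).1 (hzP ▸ hP'P)
      have hfz : f.base z = f.base x := by
        have h1 : hW.primeIdealOf ⟨f z, e hz⟩ = hW.primeIdealOf ⟨f x, e hxV⟩ := by
          apply PrimeSpectrum.ext
          rw [← comap_primeIdealOf' f hW hV e hz, hzP]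
          exact hP'p
        have := congrArg hW.fromSpec.base h1
        rwa [hW.fromSpec_primeIdealOf, hW.fromSpec_primeIdealOf] at this
      obtain rfl := hmax z hfz hyz hzx
      exact (congrArg PrimeSpectrum.asIdeal hzP).symm)
    m hm₁ hm₂
  exact mem_relAss_of_annAt f F hW hV e hxV n hn

variable {Y : Scheme.{u}} (ι : Y ⟶ X) [IsClosedImmersion ι]

omit [LocallyOfFiniteType f] in
theorem fibreClosureDim_comp [LocallyOfFiniteType f] (x : Y) :
    UOpenLib.fibreClosureDim (ι ≫ f) x = UOpenLib.fibreClosureDim f (ι.base x) := by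
  rw [UOpenLib.fibreClosureDim_eq_inter, UOpenLib.fibreClosureDim_eq_inter]
  have h : ι.base '' (closure {x} ∩ (ι ≫ f).base ⁻¹' {(ι ≫ f).base x}) =
      closure {ι.base x} ∩ f.base ⁻¹' {f.base (ι.base x)} := by
    rw [show ((ι ≫ f).base ⁻¹' {(ι ≫ f).base x} : Set Y) = ι.base ⁻¹' (f.base ⁻¹' {f.base (ι.base x)}) from rfl,
      Set.image_inter_preimage, ← ι.isClosedEmbedding.closure_image_eq, Set.image_singleton]
  let h' := (ι.isClosedEmbedding.isEmbedding.homeomorphImage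
    (closure {x} ∩ (ι ≫ f).base ⁻¹' {(ι ≫ f).base x})).trans (Homeomorph.setCongr h)
  exact IsHomeomorph.topologicalKrullDim_eq h' h'.isHomeomorph

omit [LocallyOfFiniteType f] in
theorem max_of_range [LocallyOfFiniteType f] (hι : Set.range ι.base = closure {y}) (x : Y)
    (hmax : ∀ x' : Y, (ι ≫ f).base x' = (ι ≫ f).base x → x ∈ closure {x'} → x' = x) (z : X)
    (hz : f.base z = f.base (ι.base x)) (hyz : y ⤳ z) (hzx : z ⤳ ι.base x) : z = ι.base x := by
  obtain ⟨z', rfl⟩ : z ∈ Set.range ι.base := hι ▸ hyz.mem_closure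
  exact congrArg _ (hmax z' hz ((ι.isClosedEmbedding.isInducing.specializes_iff.1 hzx).mem_closure))

include hFT hy in
/-- The closure of a relative associated point has constant fibre dimension at the flat maximal points of its fibres. -/
theorem fibreDimAt_eq (hι : Set.range ι.base = closure {y}) (x : Y)
    (hmax : ∀ x' : Y, (ι ≫ f).base x' = (ι ≫ f).base x → x ∈ closure {x'} → x' = x)
    (hfl : FlatMod.IsFlatOverAt f F (ι.base x)) :
    FlatMor.fibreDimAt (ι ≫ f) x = UOpenLib.fibreClosureDim f y := by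
  obtain ⟨y', hy'⟩ : y ∈ Set.range ι.base := hι ▸ subset_closure rfl
  have hsp : y ⤳ ι.base x := specializes_iff_mem_closure.2 (hι ▸ Set.mem_range_self x)
  have hsp' : y' ⤳ x := ι.isClosedEmbedding.isInducing.specializes_iff.1 (by rw [hy']; exact hsp)
  refine le_antisymm ?_ ?_
  swap
  · rw [← hy', ← fibreClosureDim_comp f ι y']
    exact UOpenLib.fibreClosureDim_le_fibreDimAt (ι ≫ f) hsp'
  obtain ⟨d, hd⟩ := UOpenLib.exists_fibreDimAt_eq_nat (ι ≫ f) x
  obtain ⟨W, hW, hfx, -⟩ := exists_isAffineOpen_mem_and_subset (x := (ι ≫ f).base x) (U := ⊤) trivial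
  obtain ⟨U', hU', hxU', eU', φY, hφY, -, hqf⟩ := FibDimLib.exists_qf_affine_nhd (ι ≫ f) x hW hfx d hd
  have hq := UOpenLib.comap_eq_of_le_fibreClosureDim (ι ≫ f) hW hU' eU' φY hφY hqf hxU'
    (by rw [← UOpenLib.fibreDimAt_eq_of_max (ι ≫ f) hmax, hd])
  obtain ⟨O, hO, hOU⟩ := ι.isClosedEmbedding.isInducing.isOpen_iff.1 U'.isOpen
  have hxO : ι.base x ∈ (⟨O, hO⟩ : X.Opens) ⊓ f ⁻¹ᵁ W := by
    refine ⟨?_, hfx⟩
    show x ∈ ι.base ⁻¹' O
    rw [hOU]; exact hxU'
  obtain ⟨V, hV, hxV, hVle⟩ := exists_isAffineOpen_mem_and_subset hxO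
  have e : V ≤ f ⁻¹ᵁ W := fun z hz => (hVle hz).2
  have hle : ι ⁻¹ᵁ V ≤ U' := fun z hz => by
    have h1 : z ∈ ι.base ⁻¹' O := (hVle hz).1
    rw [hOU] at h1; exact h1
  have hV' : IsAffineOpen (ι ⁻¹ᵁ V) := hV.preimage ι
  have eV' : ι ⁻¹ᵁ V ≤ (ι ≫ f) ⁻¹ᵁ W := fun z hz => e hz
  letI := chartAlg f e
  letI := chartMod f F e
  haveI := chartTower f F e
  haveI : Algebra.FiniteType Γ(S, W) Γ(X, V) := RingHom.finiteType_algebraMap.1 (f.finiteType_appLE hW hV e)
  haveI : Module.Finite Γ(X, V) Γ(F, V) := QCohLib.finite_of_isFT hFT hV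
  let res := (Y.presheaf.map (homOfLE hle).op).hom
  have hsurj : Function.Surjective (ι.app V).hom := ι.app_surjective V hV
  choose t ht using fun i => hsurj (res (φY (MvPolynomial.X i)))
  let φ : MvPolynomial (Fin d) Γ(S, W) →ₐ[Γ(S, W)] Γ(X, V) := aeval t
  have hφC : φ.toRingHom.comp C = (f.appLE W V e).hom := RingHom.ext fun r => φ.commutes r
  have hcomp : ∀ G, (ι.app V).hom (φ G) = res (φY G) := by
    have : (ι.app V).hom.comp φ.toRingHom = res.comp φY := MvPolynomial.ringHom_ext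
      (fun r => by
        show (ι.app V).hom (φ (C r)) = res (φY (C r))
        rw [show φ (C r) = (f.appLE W V e).hom r from RingHom.congr_fun hφC r,
          show φY (C r) = ((ι ≫ f).appLE W U' eU').hom r from RingHom.congr_fun hφY r]
        show (f.appLE W V e ≫ ι.app V) r = ((ι ≫ f).appLE W U' eU' ≫ Y.presheaf.map (homOfLE hle).op) r
        rw [Scheme.Hom.appLE_map, Scheme.Hom.app_eq_appLE, Scheme.Hom.appLE_comp_appLE])
      (fun i => by
        show (ι.app V).hom (φ (MvPolynomial.X i)) = res (φY (MvPolynomial.X i))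
        rw [show φ (MvPolynomial.X i) = t i from aeval_X _ _, ht])
    exact fun G => RingHom.congr_fun this G
  let P := hV.primeIdealOf ⟨ι.base x, hxV⟩
  haveI : P.asIdeal.IsPrime := P.2
  have hPc : P.asIdeal.comap φ = (P.asIdeal.comap (algebraMap Γ(S, W) Γ(X, V))).map C := by
    have h1 : (hV'.primeIdealOf ⟨x, hxV⟩).asIdeal.comap (ι.appLE V (ι ⁻¹ᵁ V) le_rfl).hom = P.asIdeal :=
      congrArg PrimeSpectrum.asIdeal (IsAffineOpen.comap_primeIdealOf_appLE V hV (ι ⁻¹ᵁ V) hV' le_rfl hxV)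
    have h2 : (hV'.primeIdealOf ⟨x, hxV⟩).asIdeal.comap ((𝟙 Y : Y ⟶ Y).appLE U' (ι ⁻¹ᵁ V) hle).hom =
        (hU'.primeIdealOf ⟨x, hxU'⟩).asIdeal :=
      congrArg PrimeSpectrum.asIdeal (IsAffineOpen.comap_primeIdealOf_appLE (f := 𝟙 Y) U' hU' (ι ⁻¹ᵁ V) hV' hle hxV)
    rw [show P.asIdeal.comap (algebraMap Γ(S, W) Γ(X, V)) = (hW.primeIdealOf ⟨f (ι.base x), e hxV⟩).asIdeal
      from comap_primeIdealOf' f hW hV e hxV]
    refine Eq.trans ?_ hq
    refine Ideal.ext fun G => ?_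
    rw [Ideal.mem_comap, Ideal.mem_comap, ← h1, ← h2, Ideal.mem_comap, Ideal.mem_comap, ← Scheme.Hom.app_eq_appLE]
    have hid : ((𝟙 Y : Y ⟶ Y).appLE U' (ι ⁻¹ᵁ V) hle).hom (φY G) = res (φY G) := by
      simp [Scheme.Hom.appLE, res]
    rw [hid, ← hcomp G]
  have hyV : y ∈ V := hsp.mem_open V.isOpen hxV
  obtain ⟨m, hm₁, hm₂⟩ := exists_annAt f F hW hV e y hyV hy
  haveI : (hW.primeIdealOf ⟨f y, e hyV⟩).asIdeal.IsPrime := (hW.primeIdealOf ⟨f y, e hyV⟩).2
  haveI : (hV.primeIdealOf ⟨y, hyV⟩).asIdeal.IsPrime := (hV.primeIdealOf ⟨y, hyV⟩).2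
  have hflat : FlatCA.FlatAt Γ(S, W) P.asIdeal Γ(F, V) :=
    (FlatLib.isFlatOverAt_iff f F W hW V hV e hxV rfl).1 hfl
  have key := comap_eq_map_C φ (hW.primeIdealOf ⟨f y, e hyV⟩).asIdeal P.asIdeal (hV.primeIdealOf ⟨y, hyV⟩).asIdeal
    ((UOpenLib.primeIdealOf_le_iff hV hyV hxV).2 hsp) (comap_primeIdealOf' f hW hV e hyV) hflat hPc m hm₁ hm₂
  rw [hd]
  refine UOpenLib.le_fibreClosureDim_of_comap_eq f hW hV e φ.toRingHom hφC ?_ hyV key
  refine RingHom.FiniteType.of_comp_finiteType (f := (C : Γ(S, W) →+* MvPolynomial (Fin d) Γ(S, W))) ?_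
  rw [hφC]
  exact f.finiteType_appLE hW hV e

end RelDimLib
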